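import Mathlib
import Cfsg.Agent.Lib.Core.Basic
import Cfsg.Agent.Lib.Coprime.Hall

/-!
# Powell's lemma, and lifting of `π`-elements
-/

set_option autoImplicit false

namespace CfsgLib.Flavell

open scoped Pointwise
open Subgroup CfsgLib.Coprime

variable {G : Type*} [Group G]

theorem exists_mul_pow_eq {K : Subgroup G} {g k : G} (hg : g ∈ normalizer (K : Set G)) (hk : k ∈ K)
    (n : ℕ) : ∃ c ∈ K, (g * k) ^ n = g ^ n * c := by
  induction n with
  | zero => exact ⟨1, K.one_mem, by simp⟩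
  | succ n ih =>
    obtain ⟨c, hc, e⟩ := ih
    refine ⟨g⁻¹ * c * g⁻¹⁻¹ * k, K.mul_mem ((mem_normalizer_iff.1 (inv_mem hg) c).1 hc) hk, ?_⟩
    rw [pow_succ, e, pow_succ]; group

theorem coprime_orderOf_of_mul [Finite G] {K : Subgroup G} {g k : G} {m : ℕ}
    (hg : g ∈ normalizer (K : Set G)) (hk : k ∈ K) (hK : (Nat.card K).Coprime m)
    (h : (orderOf (g * k)).Coprime m) : (orderOf g).Coprime m := by
  obtain ⟨c, hc, e⟩ := exists_mul_pow_eq hg hk (orderOf (g * k))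
  rw [pow_orderOf_eq_one] at e
  have h1 : g ^ orderOf (g * k) ∈ K := by
    rw [eq_inv_of_mul_eq_one_left e.symm]; exact K.inv_mem hc
  have h2 : orderOf g ∣ orderOf (g * k) * Nat.card K := by
    apply orderOf_dvd_of_pow_eq_one
    rw [pow_mul]
    exact orderOf_dvd_iff_pow_eq_one.1 (K.orderOf_dvd_natCard h1)
  exact Nat.Coprime.coprime_dvd_left h2 (Nat.Coprime.mul_left h hK)

/-- **Powell's lemma.** If every element `g` normalizes a subgroup of order prime to `m` containing `d`,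
then the normal closure of `d` has order prime to `m`. -/
theorem powell [Finite G] {d : G} {m : ℕ}
    (h : ∀ g : G, ∃ K : Subgroup G, d ∈ K ∧ g ∈ normalizer (K : Set G) ∧ (Nat.card K).Coprime m) :
    (Nat.card (normalClosure ({d} : Set G))).Coprime m := by
  have h' : ∀ e ∈ Group.conjugatesOfSet ({d} : Set G), ∀ g : G, ∃ K : Subgroup G, e ∈ K ∧
      g ∈ normalizer (K : Set G) ∧ (Nat.card K).Coprime m := by
    intro e he g
    obtain ⟨d', hd', hc⟩ := Group.mem_conjugatesOfSet_iff.1 he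
    rw [Set.mem_singleton_iff.1 hd'] at hc
    obtain ⟨c, rfl⟩ := isConj_iff.1 hc
    obtain ⟨K, h1, h2, h3⟩ := h (c⁻¹ * g * c)
    refine ⟨MulAut.conj c • K, conj_mem_conj_smul h1, ?_, by rwa [card_conj_smul]⟩
    rw [mem_normalizer_iff_conj_smul_eq] at h2 ⊢
    rw [← mul_smul, ← map_mul, show g * c = c * (c⁻¹ * g * c) by group, map_mul, mul_smul, h2]
  rw [Core.subgroup_coprime_card_iff]
  intro g hg
  induction hg using closure_induction_right with
  | one => simp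
  | mul_right x _ y hy ih =>
    obtain ⟨K, h1, h2, h3⟩ := h' y hy (x * y)
    exact coprime_orderOf_of_mul h2 (K.inv_mem h1) h3 (by rwa [mul_inv_cancel_right])
  | mul_inv_cancel x _ y hy ih =>
    obtain ⟨K, h1, h2, h3⟩ := h' y hy (x * y⁻¹)
    exact coprime_orderOf_of_mul h2 h1 h3 (by rwa [inv_mul_cancel_right])

theorem powell_simple [Finite G] [IsSimpleGroup G] {d : G} (hd : d ≠ 1) {m : ℕ}
    (h : ∀ g : G, ∃ K : Subgroup G, d ∈ K ∧ g ∈ normalizer (K : Set G) ∧ (Nat.card K).Coprime m) :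
    (Nat.card G).Coprime m := by
  have h1 := powell h
  rcases (inferInstance : (normalClosure ({d} : Set G)).Normal).eq_bot_or_eq_top with e | e
  · exact absurd (mem_bot.1 (e ▸ subset_normalClosure (Set.mem_singleton d))) hd
  · rwa [e, card_top] at h1

theorem exists_pi_mul_eq (π : Set ℕ) {n : ℕ} (hn : n ≠ 0) :
    ∃ a b, IsPiNum π a ∧ IsPiNum πᶜ b ∧ n = a * b := by
  induction n using Nat.recOnMul with
  | zero => exact absurd rfl hn
  | one => exact ⟨1, 1, IsPiNum.one _, IsPiNum.one _, rfl⟩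
  | prime p hp =>
    by_cases h : p ∈ π
    · exact ⟨p ^ 1, 1, IsPiNum.of_prime_pow hp h, IsPiNum.one _, by simp⟩
    · exact ⟨1, p ^ 1, IsPiNum.one _, IsPiNum.of_prime_pow hp h, by simp⟩
  | mul a b iha ihb =>
    obtain ⟨a1, a2, h1, h2, rfl⟩ := iha (left_ne_zero_of_mul hn)
    obtain ⟨b1, b2, h3, h4, rfl⟩ := ihb (right_ne_zero_of_mul hn)
    exact ⟨a1 * b1, a2 * b2, h1.mul h3, h2.mul h4, by ring⟩

/-- `π`-elements lift to `π`-elements. -/
theorem exists_pow_isPiNum [Finite G] {Q : Type*} [Group Q] (f : G →* Q) {π : Set ℕ} {x : G}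
    (h : IsPiNum π (orderOf (f x))) : ∃ k : ℕ, f (x ^ k) = f x ∧ IsPiNum π (orderOf (x ^ k)) := by
  obtain ⟨a, b, ha, hb, e⟩ := exists_pi_mul_eq π (orderOf_pos x).ne'
  obtain ⟨k, hk1, hk2⟩ := Nat.chineseRemainder (ha.coprime hb) 1 0
  refine ⟨k, ?_, ha.of_dvd (orderOf_dvd_of_pow_eq_one ?_)⟩
  · have h1 : orderOf (f x) ∣ a := (h.coprime hb).dvd_of_dvd_mul_right (e ▸ orderOf_map_dvd f x)
    rw [map_pow]
    nth_rewrite 2 [← pow_one (f x)]
    exact pow_eq_pow_iff_modEq.2 (hk1.of_dvd h1)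
  · rw [← pow_mul, ← orderOf_dvd_iff_pow_eq_one, e, mul_comm k]
    exact Nat.mul_dvd_mul_left a ((Nat.modEq_zero_iff_dvd).1 hk2)

theorem isPiNum_card_of_forall [Finite G] {π : Set ℕ} {H : Subgroup G}
    (h : ∀ x ∈ H, IsPiNum πᶜ (orderOf x) → x = 1) : IsPiNum π (Nat.card H) := by
  intro q hq hd
  by_contra hn
  have := Fact.mk hq
  obtain ⟨⟨x, hx⟩, hxq⟩ := exists_prime_orderOf_dvd_card' q hd
  rw [orderOf_mk] at hxq
  have h1 := h x hx (by rw [hxq, ← pow_one q]; exact IsPiNum.of_prime_pow hq hn)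
  rw [h1, orderOf_one] at hxq
  exact hq.one_lt.ne hxq

theorem eq_one_of_isPiNum {π : Set ℕ} {H : Subgroup G} (hH : IsPiNum π (Nat.card H)) {x : G}
    (hx : x ∈ H) (h : IsPiNum πᶜ (orderOf x)) : x = 1 :=
  orderOf_eq_one_iff.1 (Nat.coprime_self _ |>.1 ((hH.of_dvd (H.orderOf_dvd_natCard hx)).coprime h))

end CfsgLib.Flavell
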