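import Mathlib
import Cfsg.Agent.Lib.Flavell.Powell
import Cfsg.Agent.Lib.Core.MinNormal
import Cfsg.Agent.Lib.Core.Cores
import Cfsg.Agent.Lib.Coprime.Generation
import Cfsg.Agent.Lib.Coprime.Abelian
import Cfsg.Agent.Lib.Coprime.SchurZassenhaus
import Cfsg.Agent.Lib.PLocal.Constrained
import Cfsg.Agent.Lib.Tech.SylowIn
import Cfsg.Agent.Lib.ZJ.Stable
import Cfsg.Agent.Lib.ZJ.QdInvolve

/-!
# Groups in which every two elements generate a soluble subgroup: the local analysis
-/

set_option autoImplicit false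

namespace CfsgLib.Flavell

open scoped Pointwise commutatorElement MatrixGroups
open Subgroup CfsgLib.Coprime CfsgLib.Tech CfsgLib.ZJ

variable {G : Type*} [Group G] {p : ℕ}

/-- `O_{p'}(H)` as a subgroup of `G`. -/
abbrev opp (p : ℕ) (H : Subgroup G) : Subgroup G := (Cfsg.pPrimeCore p H).map H.subtype

theorem opp_le (H : Subgroup G) : opp p H ≤ H := map_subtype_le _

theorem le_normalizer_opp (H : Subgroup G) : H ≤ normalizer (opp p H : Set G) :=
  le_normalizer.trans (Core.normalizer_le_normalizer_map_pPrimeCore H)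

theorem coprime_opp [Finite G] (H : Subgroup G) : (Nat.card (opp p H)).Coprime p :=
  Core.coprime_card_map_pPrimeCore H

theorem subgroupOf_le_normalizer_subgroupOf {H K L : Subgroup G}
    (h : H ⊓ L ≤ normalizer (K : Set G)) :
    L.subgroupOf H ≤ normalizer ((K.subgroupOf H : Subgroup H) : Set H) := by
  intro g hg
  have h1 : (g : G) ∈ normalizer (K : Set G) := h ⟨g.2, hg⟩
  rw [mem_normalizer_iff] at h1 ⊢
  intro y
  exact h1 y

theorem le_opp_of_centralizer [Finite G] [Fact p.Prime] {H U K : Subgroup G} [Group.IsSolvable H]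
    (hU : IsPGroup p U) (hUH : U ≤ H) (hK : (Nat.card K).Coprime p) (hKH : K ≤ H)
    (hKU : K ≤ centralizer (U : Set G)) (hn : H ⊓ centralizer (U : Set G) ≤ normalizer (K : Set G)) :
    K ≤ opp p H := by
  have h1 := (PLocal.Constr.centralizer_of_isPConstrained
    (PLocal.Constr.isPConstrained_of_isSolvable (G := H) (p := p))
    (hU.comap_subtype (K := H))).2
  have h2 : K.subgroupOf H ≤ Cfsg.pPrimeCore p H := by
    refine le_trans ?_ (h1.le.trans inf_le_left)
    have e := Core.centralizer_subgroupOf_of_le hUH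
    refine Core.le_map_pPrimeCore ?_ ?_ (by rw [Core.card_subgroupOf_of_le hKH]; exact hK)
    · change K.subgroupOf H ≤ centralizer ((U.subgroupOf H : Subgroup H) : Set H)
      rw [e]; exact subgroupOf_mono _ hKU
    · change centralizer ((U.subgroupOf H : Subgroup H) : Set H) ≤ _
      rw [e]; exact subgroupOf_le_normalizer_subgroupOf hn
  have := map_mono (f := H.subtype) h2
  rwa [map_subgroupOf_eq_of_le hKH] at this

theorem le_opp_of_normalizer [Finite G] [Fact p.Prime] {H U K : Subgroup G} [Group.IsSolvable H]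
    (hU : IsPGroup p U) (hUH : U ≤ H) (hK : (Nat.card K).Coprime p) (hKH : K ≤ H)
    (hKU : K ≤ normalizer (U : Set G)) (hn : H ⊓ normalizer (U : Set G) ≤ normalizer (K : Set G)) :
    K ≤ opp p H := by
  have h1 := (PLocal.Constr.normalizer_of_isPConstrained
    (PLocal.Constr.isPConstrained_of_isSolvable (G := H) (p := p))
    (hU.comap_subtype (K := H))).2
  have h2 : K.subgroupOf H ≤ Cfsg.pPrimeCore p H := by
    refine le_trans ?_ (h1.le.trans inf_le_left)
    have e := subgroupOf_normalizer_eq hUH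
    refine Core.le_map_pPrimeCore ?_ ?_ (by rw [Core.card_subgroupOf_of_le hKH]; exact hK)
    · change K.subgroupOf H ≤ normalizer ((U.subgroupOf H : Subgroup H) : Set H)
      rw [← e]; exact subgroupOf_mono _ hKU
    · change normalizer ((U.subgroupOf H : Subgroup H) : Set H) ≤ _
      rw [← e]; exact subgroupOf_le_normalizer_subgroupOf hn
  have := map_mono (f := H.subtype) h2
  rwa [map_subgroupOf_eq_of_le hKH] at this

theorem quadStable_of_isSolvable [Finite G] [hp : Fact p.Prime] [Group.IsSolvable G] (h5 : 5 ≤ p) :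
    QuadStable p G := by
  refine quadStable_of_not_involves_qd (by omega) (not_involves_qd_of_not_involves_SL2 fun h => ?_)
  obtain ⟨K, f, hf⟩ := involves_iff.1 h
  have h2 : (2 : ZMod p) ≠ 0 := by
    intro e
    have := (ZMod.natCast_eq_zero_iff 2 p).1 (by exact_mod_cast e)
    have := Nat.le_of_dvd two_pos this
    omega
  have h3 : (2 : ZMod p) ^ 2 ≠ 1 := by
    intro e
    have : ((3 : ℕ) : ZMod p) = 0 := by
      push_cast
      linear_combination e
    have := Nat.le_of_dvd three_pos ((ZMod.natCast_eq_zero_iff 3 p).1 this)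
    omega
  have : Group.IsPerfect SL(2, ZMod p) := ⟨Matrix.SL2.commutator_eq_top h2 h3⟩
  have : Nontrivial SL(2, ZMod p) := by
    refine ⟨⟨1, -1, fun e => h2 ?_⟩⟩
    have := congrArg (fun A : SL(2, ZMod p) => A.1 0 0) e
    simp at this
    linear_combination this
  exact Group.IsPerfect.not_isSolvable SL(2, ZMod p) (Group.isSolvable_of_surjective hf)

theorem cj_zj (g : G) (T : Subgroup G) : cj g (zj 0 T) = zj 0 (cj g T) :=
  map_zj (MulAut.conj g).injective T

/-- The `ZJ`-factorization of a soluble subgroup for `p ≥ 5`. -/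
theorem le_opp_sup_normalizer_zj [Finite G] [Fact p.Prime] (h5 : 5 ≤ p) {H T : Subgroup G}
    [Group.IsSolvable H] (hT : IsSylowIn p T H) :
    H ≤ opp p H ⊔ (H ⊓ normalizer (zj 0 T : Set G)) := by
  have h1 := pPrimeCore_sup_normalizer_zj (G := H) (p := p) (e := 0) (by omega) (Or.inl rfl)
    PLocal.Constr.isPConstrained_of_isSolvable (quadStable_of_isSolvable h5) hT.toSylow
    (isStronglyClosed_self _)
  have h2 := congrArg (Subgroup.map H.subtype) h1
  rw [Subgroup.map_sup, ← MonoidHom.range_eq_map, range_subtype] at h2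
  refine h2.ge.trans (sup_le_sup_left (le_inf (map_subtype_le _) ?_) _)
  refine (le_normalizer_map _).trans ?_
  rw [map_zj H.subtype_injective, hT.map_toSylow]

/-- If `x` is a `p`-element normalizing the `p'`-group `K` then `b ∈ K` is, up to an element
centralizing `x`, contained in `⟨x, x^b⟩`. -/
theorem exists_mem_closure_conj [Finite G] [Fact p.Prime] {K : Subgroup G} {x b : G}
    (hx : IsPGroup p (zpowers x)) (hK : (Nat.card K).Coprime p) (hxK : x ∈ normalizer (K : Set G))
    (hb : b ∈ K) : ∃ b' ∈ K, ∃ c ∈ K ⊓ centralizer {x}, b = b' * c ∧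
      b' ∈ closure ({x, b' * x * b'⁻¹} : Set G) := by
  set L := closure ({x, b * x * b⁻¹} : Set G) with hL
  have hxL : x ∈ L := subset_closure (by simp)
  have hyL : b * x * b⁻¹ ∈ L := subset_closure (by simp)
  have hcomm : ∀ k ∈ K, k * x * k⁻¹ * x⁻¹ ∈ K := fun k hk => by
    have := K.mul_mem hk (Tech.conj_mem_of_mem_normalizer hxK (K.inv_mem hk))
    simpa [mul_assoc] using this
  have hcop : (Nat.card (zpowers (b * x * b⁻¹))).Coprime (Nat.card (L ⊓ K : Subgroup G)) := by
    rw [← cj_zpowers, card_cj]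
    exact Core.isPGroup_coprime_card hx (hK.coprime_dvd_left (card_dvd_of_le inf_le_right))
  obtain ⟨k, hk, hk2⟩ := exists_conj_smul_le_of_le_sup (K := L ⊓ K) (A := zpowers (b * x * b⁻¹))
    (S := zpowers x) (by
      rw [zpowers_le]
      exact inf_normalizer_le_normalizer_inf ⟨le_normalizer hxL, hxK⟩) (by
      rw [zpowers_le]
      have e : b * x * b⁻¹ = (b * x * b⁻¹ * x⁻¹) * x := by group
      rw [e]
      exact mul_mem (mem_sup_left ⟨L.mul_mem hyL (L.inv_mem hxL), hcomm b hb⟩)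
        (mem_sup_right (mem_zpowers x))) hcop (Or.inl (isSolvable_zpowers _))
  have h1 : k * (b * x * b⁻¹) * k⁻¹ ∈ zpowers x := hk2 (conj_mem_conj_smul (mem_zpowers _))
  have hkb : k * b ∈ K := K.mul_mem hk.2 hb
  have h2 : (k * b) * x * (k * b)⁻¹ * x⁻¹ ∈ zpowers x ⊓ K := by
    refine mem_inf.2 ⟨mul_mem ?_ (inv_mem (mem_zpowers x)), hcomm _ hkb⟩
    have e : k * b * x * (k * b)⁻¹ = k * (b * x * b⁻¹) * k⁻¹ := by group
    rwa [e]
  rw [Core.isPGroup_inf_eq_bot_of_coprime hx hK, mem_bot] at h2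
  have h3 : (k * b) * x * (k * b)⁻¹ = x := by rwa [mul_inv_eq_one] at h2
  refine ⟨k⁻¹, K.inv_mem hk.2, k * b, mem_inf.2 ⟨hkb, ?_⟩, by group, ?_⟩
  · rw [mem_centralizer_singleton_iff, ← mul_inv_eq_iff_eq_mul]
    exact h3
  · have e : k⁻¹ * x * k⁻¹⁻¹ = b * x * b⁻¹ := by
      conv_lhs => rw [← h3]
      group
    rw [e]
    exact L.inv_mem hk.1

theorem mem_closure_mul_of_mem {x b n : G} (hb : b ∈ closure ({x, b * x * b⁻¹} : Set G))
    (hn : n ∈ normalizer (zpowers x : Set G)) :
    b ∈ closure ({x, b * n} : Set G) ∧ n ∈ closure ({x, b * n} : Set G) := by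
  set L := closure ({x, b * n} : Set G)
  have hx : x ∈ L := subset_closure (by simp)
  have hbn : b * n ∈ L := subset_closure (by simp)
  have h1 : n⁻¹ * x * n ∈ L := (zpowers_le.2 hx) (conj_mem_of_mem_normalizer' hn (mem_zpowers x))
  have h2 : b * x * b⁻¹ ∈ L := by
    have := L.mul_mem (L.mul_mem hbn h1) (L.inv_mem hbn)
    convert this using 1
    group
  have h3 : b ∈ L := by
    refine (closure_le L).2 ?_ hb
    rintro y (rfl | rfl)
    exacts [hx, h2]
  exact ⟨h3, by simpa using L.mul_mem (L.inv_mem h3) hbn⟩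

theorem left_mem_zpowers_mul [Finite G] {x y : G} (hc : Commute x y)
    (h : (orderOf x).Coprime (orderOf y)) : x ∈ zpowers (x * y) := by
  have h1 : (x * y) ^ orderOf y = x ^ orderOf y := by
    rw [hc.mul_pow, pow_orderOf_eq_one, mul_one]
  have h2 : x ∈ zpowers (x ^ orderOf y) := mem_zpowers_pow_iff.2 h.symm
  rw [← h1] at h2
  exact (zpowers_le.2 (pow_mem (mem_zpowers _) _)) h2

/-- A minimal counterexample. -/
structure MinCE (G : Type*) [Group G] : Prop where
  simple : IsSimpleGroup G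
  notSolv : ¬ Group.IsSolvable G
  proper : ∀ H : Subgroup G, H ≠ ⊤ → Group.IsSolvable H
  two : ∀ a b : G, closure ({a, b} : Set G) ≠ ⊤

namespace MinCE

variable [Finite G] (h : MinCE G)
include h

omit [Finite G] in
theorem normalizer_ne_top {U : Subgroup G} (hU : U ≠ ⊥) (hs : Group.IsSolvable U) :
    normalizer (U : Set G) ≠ ⊤ := by
  intro e
  have := h.simple
  rcases (normalizer_eq_top_iff.1 e).eq_bot_or_eq_top with h1 | h1
  · exact hU h1
  · subst h1
    exact h.notSolv (Core.isSolvable_of_mulEquiv (topEquiv : (⊤ : Subgroup G) ≃* G))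

omit [Finite G] in
theorem centralizer_ne_top {x : G} (hx : x ≠ 1) : centralizer ({x} : Set G) ≠ ⊤ := by
  intro e
  refine h.normalizer_ne_top (U := zpowers x) (by simpa using hx) (isSolvable_zpowers x) ?_
  rw [eq_top_iff, ← e, ← Core.centralizer_zpowers]
  exact centralizer_le_normalizer _

theorem opp_centralizer [hp : Fact p.Prime] {x : G} (hx : IsPGroup p (zpowers x)) (hx1 : x ≠ 1) :
    opp p (centralizer ({x} : Set G)) = ⊥ := by
  by_contra hne
  obtain ⟨⟨d, hd⟩, hd1⟩ := ne_bot_iff_exists_ne_one.1 hne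
  have hd1' : d ≠ 1 := fun e => hd1 (Subtype.ext e)
  have := h.simple
  have hdx : Commute x d := (mem_centralizer_singleton_iff.1 (opp_le _ hd)).symm
  have hdo : (orderOf d).Coprime p := Core.subgroup_coprime_card_iff.1 (coprime_opp _) d hd
  have hxo : (orderOf x).Coprime (orderOf d) := by
    rw [← Nat.card_zpowers]
    exact Core.isPGroup_coprime_card hx hdo
  have hcop := powell_simple hd1' (m := p) fun g => by
    set H := closure ({x * d, g} : Set G)
    have hs := h.proper H (h.two _ _)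
    have hxd : zpowers (x * d) ≤ H := zpowers_le.2 (subset_closure (by simp))
    have hxH : x ∈ H := hxd (left_mem_zpowers_mul hdx hxo)
    have hdH : d ∈ H := by simpa using H.mul_mem (H.inv_mem hxH) (hxd (mem_zpowers _))
    refine ⟨opp p H, ?_, le_normalizer_opp H (subset_closure (by simp)), coprime_opp H⟩
    refine le_opp_of_centralizer (K := opp p (centralizer ({x} : Set G)) ⊓ H) hx
      (zpowers_le.2 hxH) ((coprime_opp _).coprime_dvd_left (card_dvd_of_le inf_le_left))
      inf_le_right ?_ ?_ ⟨hd, hdH⟩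
    · rw [Core.centralizer_zpowers]; exact inf_le_left.trans (opp_le _)
    · rw [Core.centralizer_zpowers]
      exact le_trans (le_inf (inf_le_right.trans (le_normalizer_opp _))
        (inf_le_left.trans le_normalizer)) inf_normalizer_le_normalizer_inf
  have h1 : p ∣ Nat.card G := (Core.dvd_card_of_isPGroup_of_ne_bot hx (by simpa using hx1)).trans
    (card_subgroup_dvd_card _)
  exact hp.out.one_lt.ne' (Nat.Coprime.eq_one_of_dvd hcop.symm h1)

theorem opp_normalizer [hp : Fact p.Prime] {U : Subgroup G} (hU : IsPGroup p U) (hU1 : U ≠ ⊥) :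
    opp p (normalizer (U : Set G)) = ⊥ := by
  obtain ⟨⟨x, hx⟩, hx1⟩ := ne_bot_iff_exists_ne_one.1
    (inf_centralizer_ne_bot_of_isPGroup hU U hU le_normalizer hU1)
  have hx1' : x ≠ 1 := fun e => hx1 (Subtype.ext e)
  have hs := h.proper _ (h.centralizer_ne_top hx1')
  have hxp : IsPGroup p (zpowers x) := isPGroup_zpowers_of_mem hU hx.1
  have hKU : opp p (normalizer (U : Set G)) ≤ centralizer (U : Set G) :=
    Core.le_centralizer_of_le_normalizer_of_disjoint (opp_le _)
      (le_normalizer.trans (le_normalizer_opp _))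
      (by rw [inf_comm]; exact Core.isPGroup_inf_eq_bot_of_coprime hU (coprime_opp _))
  rw [eq_bot_iff, ← h.opp_centralizer hxp hx1']
  refine le_opp_of_normalizer hU ?_ (coprime_opp _) ?_ (opp_le _)
    (inf_le_right.trans (le_normalizer_opp _))
  · intro u hu
    exact mem_centralizer_singleton_iff.2 (hx.2 u hu)
  · exact hKU.trans (centralizer_le (by simpa using hx.1))

theorem normalizer_le_normalizer_zj' [hp : Fact p.Prime] (h5 : 5 ≤ p) {U T : Subgroup G}
    (hU : IsPGroup p U) (hU1 : U ≠ ⊥) (hT : IsSylowIn p T (normalizer (U : Set G))) :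
    normalizer (U : Set G) ≤ normalizer (zj 0 T : Set G) := by
  have := h.proper _ (h.normalizer_ne_top hU1 (isSolvable_of_isPGroup hU))
  have h1 := le_opp_sup_normalizer_zj h5 hT
  rw [h.opp_normalizer hU hU1, bot_sup_eq] at h1
  exact h1.trans inf_le_right

theorem zj_eq [hp : Fact p.Prime] (h5 : 5 ≤ p) (T : Subgroup G) : T ≠ ⊥ → ∀ S₁ S₂ : Subgroup G,
    IsSylowIn p S₁ ⊤ → IsSylowIn p S₂ ⊤ → T ≤ S₁ → T ≤ S₂ → zj 0 S₁ = zj 0 S₂ := by
  induction T using WellFoundedGT.induction with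
  | _ T ih =>
  intro hT S₁ S₂ h1 h2 hT1 hT2
  by_cases e1 : T = S₁
  · rw [h1.eq_of_le h2.pgroup (e1 ▸ hT2) le_top]
  by_cases e2 : T = S₂
  · rw [h2.eq_of_le h1.pgroup (e2 ▸ hT1) le_top]
  have hR1 := lt_inf_normalizer_of_lt h1.pgroup (lt_of_le_of_ne hT1 e1)
  have hR2 := lt_inf_normalizer_of_lt h2.pgroup (lt_of_le_of_ne hT2 e2)
  set R₁ := S₁ ⊓ normalizer (T : Set G)
  set R₂ := S₂ ⊓ normalizer (T : Set G)
  let 𝒮 : Set (Subgroup G) := {W | ∃ U : Subgroup G, IsPGroup p U ∧ U ≠ ⊥ ∧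
    R₁ ≤ normalizer (U : Set G) ∧ R₂ ≤ normalizer (U : Set G) ∧
    IsSylowIn p W (normalizer (U : Set G))}
  have hne : 𝒮.Nonempty := by
    obtain ⟨W, hW⟩ := exists_isSylowIn p (normalizer (T : Set G))
    exact ⟨W, T, h1.pgroup.to_le hT1, hT, inf_le_right, inf_le_right, hW⟩
  obtain ⟨W, ⟨U, hU, hU1, hRU1, hRU2, hW⟩, hmax⟩ :=
    Set.exists_max_image 𝒮 (fun W => Nat.card W) (Set.toFinite _) hne
  obtain ⟨T₁, hT₁, hRT1⟩ := exists_isSylowIn_ge (h1.pgroup.to_le inf_le_left) hRU1
  obtain ⟨T₂, hT₂, hRT2⟩ := exists_isSylowIn_ge (h2.pgroup.to_le inf_le_left) hRU2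
  have hN1 := h.normalizer_le_normalizer_zj' h5 hU hU1 hT₁
  have hz : zj 0 T₁ = zj 0 T₂ := by
    obtain ⟨g, hg, rfl⟩ := hT₁.exists_cj_eq hT₂
    rw [← cj_zj, mem_normalizer_iff_cj.1 (hN1 hg)]
  have hT₁b : T₁ ≠ ⊥ := fun e => hT (eq_bot_iff.2 (e ▸ hR1.le.trans hRT1))
  have hS₁ : IsSylowIn p T₁ ⊤ := by
    by_contra hc
    obtain ⟨R, hR, hlt, -, hRN⟩ := exists_lt_pgroup_normalizer hT₁.pgroup le_top hc
    obtain ⟨W', hW', hRW'⟩ := exists_isSylowIn_ge hR (hRN.trans (normalizer_le_normalizer_zj (e := 0) T₁))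
    have h3 := hmax W' ⟨zj 0 T₁, hT₁.pgroup.to_le (zj_le _), zj_ne_bot (Or.inl rfl) hT₁.pgroup hT₁b,
      hRU1.trans hN1, hRU2.trans hN1, hW'⟩
    have h4 := Core.card_lt_of_lt (hlt.trans_le hRW')
    have h5 := hW.card_eq hT₁
    omega
  have hS₂ : IsSylowIn p T₂ ⊤ := hS₁.of_card_le hT₂.pgroup le_top (hT₁.card_eq hT₂).le
  rw [ih R₁ hR1 (fun e => hT (eq_bot_iff.2 (e ▸ hR1.le))) S₁ T₁ h1 hS₁ inf_le_left hRT1, hz,
    ih R₂ hR2 (fun e => hT (eq_bot_iff.2 (e ▸ hR2.le))) S₂ T₂ h2 hS₂ inf_le_left hRT2]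

theorem normalizer_le_of_le_sylow [hp : Fact p.Prime] (h5 : 5 ≤ p) {U S : Subgroup G}
    (hS : IsSylowIn p S ⊤) (hU1 : U ≠ ⊥) (hUS : U ≤ S) :
    normalizer (U : Set G) ≤ normalizer (zj 0 S : Set G) := by
  intro g hg
  rw [mem_normalizer_iff_cj] at hg ⊢
  rw [cj_zj]
  exact h.zj_eq h5 U hU1 _ _ (hS.cj_of_mem (mem_top g)) hS (hg ▸ cj_mono g hUS) hUS

theorem le_of_opp_le [hp : Fact p.Prime] (h5 : 5 ≤ p) {H S : Subgroup G} (hS : IsSylowIn p S ⊤)
    (hH : H ≠ ⊤) {x : G} (hx1 : x ≠ 1) (hxS : x ∈ S) (hxH : x ∈ H)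
    (hopp : opp p H ≤ normalizer (zj 0 S : Set G)) : H ≤ normalizer (zj 0 S : Set G) := by
  have := h.proper H hH
  have hxp : IsPGroup p (zpowers x) := isPGroup_zpowers_of_mem hS.pgroup hxS
  obtain ⟨T, hT, hxT⟩ := exists_isSylowIn_ge hxp (zpowers_le.2 hxH)
  obtain ⟨S', hS', hTS'⟩ := exists_isSylowIn_ge hT.pgroup (le_top (a := T))
  have hx0 : zpowers x ≠ ⊥ := by simpa using hx1
  have e := h.zj_eq h5 _ hx0 _ _ hS hS' (zpowers_le.2 hxS) (hxT.trans hTS')
  refine (le_opp_sup_normalizer_zj h5 hT).trans (sup_le hopp (inf_le_right.trans ?_))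
  rw [e]
  exact h.normalizer_le_of_le_sylow h5 hS'
    (zj_ne_bot (Or.inl rfl) hT.pgroup fun e => hx0 (eq_bot_iff.2 (e ▸ hxT))) ((zj_le _).trans hTS')

/-- The case of a non-cyclic Sylow `p`-subgroup. -/
theorem not_rank_two [hp : Fact p.Prime] (h5 : 5 ≤ p) {E : Subgroup G} (hE : IsPGroup p E)
    [IsMulCommutative E] : IsCyclic E := by
  by_contra hc
  obtain ⟨S, hS, hES⟩ := exists_isSylowIn_ge hE (le_top (a := E))
  have hcent : ∀ a ∈ S, a ≠ 1 → centralizer ({a} : Set G) ≤ normalizer (zj 0 S : Set G) := by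
    intro a ha ha1
    rw [← Core.centralizer_zpowers]
    exact (centralizer_le_normalizer _).trans
      (h.normalizer_le_of_le_sylow h5 hS (by simpa using ha1) (zpowers_le.2 ha))
  -- a non-cyclic subgroup generated by two elements
  have hE1 : E ≠ ⊥ := fun e => hc (by subst e; infer_instance)
  obtain ⟨x, hxE, hxo⟩ : ∃ x ∈ E, ∀ y ∈ E, orderOf y ≤ orderOf x := by
    obtain ⟨x, hx, hm⟩ := Set.exists_max_image (E : Set G) orderOf (Set.toFinite _) ⟨1, E.one_mem⟩
    exact ⟨x, hx, hm⟩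
  obtain ⟨e, heE, he⟩ : ∃ e ∈ E, e ∉ zpowers x := by
    by_contra h1
    push Not at h1
    have : E = zpowers x := le_antisymm h1 (zpowers_le.2 hxE)
    exact hc (this ▸ inferInstance)
  have hx1 : x ≠ 1 := by
    rintro rfl
    have := hxo e heE
    rw [orderOf_one] at this
    have h2 := orderOf_pos e
    have h3 : orderOf e = 1 := by omega
    exact he (by rw [orderOf_eq_one_iff.1 h3]; exact one_mem _)
  set F := closure ({x, e} : Set G) with hF
  have hFE : F ≤ E := by
    rw [hF, closure_le]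
    rintro y (rfl | rfl)
    exacts [hxE, heE]
  have hxF : x ∈ F := subset_closure (by simp)
  have heF : e ∈ F := subset_closure (by simp)
  have := Core.isMulCommutative_of_le hFE
  have hFc : ¬ IsCyclic F := by
    intro hcy
    obtain ⟨g, hg⟩ := isCyclic_iff_exists_zpowers_eq_top.1 hcy
    have h1 : zpowers x = F := by
      refine Core.eq_of_le_of_card_le (zpowers_le.2 hxF) ?_
      rw [Nat.card_zpowers, ← card_top (G := F), ← hg, Nat.card_zpowers, ← Subgroup.orderOf_coe]
      exact hxo _ (hFE g.2)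
    exact he (h1 ▸ heF)
  have hFH : ∀ H : Subgroup G, H ≠ ⊤ → F ≤ H → H ≤ normalizer (zj 0 S : Set G) := by
    intro H hH hFH
    refine h.le_of_opp_le h5 hS hH hx1 (hES hxE) (hFH hxF) ?_
    refine le_of_forall_centralizer_le hFc (hFH.trans (le_normalizer_opp H))
      (Core.isPGroup_coprime_card (hE.to_le hFE) (coprime_opp H)) fun a ha ha1 => ?_
    exact inf_le_right.trans (hcent a (hES (hFE ha)) ha1)
  have hall : ∀ g : G, g ∈ normalizer (zj 0 S : Set G) := by
    intro g
    set H := closure ({x, g} : Set G)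
    have hxH : x ∈ H := subset_closure (by simp)
    refine h.le_of_opp_le h5 hS (h.two x g) hx1 (hES hxE) hxH ?_ (subset_closure (by simp))
    intro b hb
    obtain ⟨b', -, c, hc', rfl, hb'⟩ := exists_mem_closure_conj
      (isPGroup_zpowers_of_mem hE hxE) (coprime_opp H) (le_normalizer_opp H hxH) hb
    refine mul_mem ?_ (hcent x (hES hxE) hx1 hc'.2)
    have hen : e ∈ normalizer (zpowers x : Set G) := by
      refine centralizer_le_normalizer _ ?_
      rw [Core.centralizer_zpowers, mem_centralizer_singleton_iff]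
      exact Core.isMulCommutative_iff_forall.1 inferInstance e heE x hxE
    obtain ⟨h1, h2⟩ := mem_closure_mul_of_mem hb' hen
    refine hFH _ (h.two x (b' * e)) ?_ h1
    rw [hF, closure_le]
    rintro y (rfl | rfl)
    exacts [subset_closure (by simp), h2]
  refine h.normalizer_ne_top (U := zj 0 S) (zj_ne_bot (Or.inl rfl) hS.pgroup
    fun e => hE1 (eq_bot_iff.2 (e ▸ hES))) (isSolvable_of_isPGroup (hS.pgroup.to_le (zj_le _))) ?_
  exact eq_top_iff.2 fun g _ => hall g

end MinCE

end CfsgLib.Flavell
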